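import Mathlib
import Cfsg.Prelude.Def_SporadicB
import Cfsg.Prelude.Def_Local
import Cfsg.Agent.LFourB.FixQuat
import Cfsg.Agent.S0542
import Cfsg.Agent.SignalizersComponents.Components
import Cfsg.Agent.SignalizersComponents.SLQuasisimple
import Cfsg.Agent.SignalizersComponents.PConstrained
import Cfsg.Agent.SignalizersComponents.EvenComponent
import Cfsg.Agent.PLocal.PConstrainedLocal
import Cfsg.Agent.OddHalf.LongSL.Abs

/-!
# A long `SL₂(q)`, `q > 3` odd, and 2-constrained centralizers (helper326)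

* `not_con` : `D` 2-constrained, `t ∈ D` a 2-element: no quasisimple `J ≤ D ∩ C(t)` of even order is subnormal in `C(t)`;
* `exists_central` : `j ∈ J ≅ SL₂(q)`, `q > 3` odd, `j` an involution and `J` subnormal in `C(j)`: some 2-central
  involution centralizes `J` (after `QTKE.LongEven.not_even`);
* `false_of_long` : if every 2-central involution has a 2-constrained centralizer, there is no long `SL₂(q)`, `q > 3`.
-/

set_option autoImplicit false

namespace Cfsg.Agent.H326.LongCon

open Cfsg Subgroup Cfsg.Agent.SignalizersComponents.Components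

variable {X : Type*} [Group X]

/-- **No components of even order in centralizers of 2-elements of 2-constrained groups.** -/
theorem not_con [Finite X] {D : Subgroup X} (hD : IsPConstrained 2 D) {t : X} (ht : IsPGroup 2 (zpowers t))
    (htD : t ∈ D) {J : Subgroup X} (hJD : J ≤ D) (hJt : J ≤ centralizer ({t} : Set X))
    (hs : (J.subgroupOf (centralizer ({t} : Set X))).IsSubnormal) (hq : IsQuasisimple J)
    (h2 : 2 ∣ Nat.card J) : False := by
  have : Fact (Nat.Prime 2) := ⟨Nat.prime_two⟩
  let u : D := ⟨t, htD⟩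
  have hu : IsPGroup 2 (zpowers u) := by
    have h1 : (zpowers u).map D.subtype = zpowers t := by
      rw [MonoidHom.map_zpowers]; rfl
    have h2 : IsPGroup 2 ((zpowers u).map D.subtype) := by rw [h1]; exact ht
    exact h2.of_equiv ((zpowers u).equivMapOfInjective D.subtype D.subtype_injective).symm
  have h3 := (Cfsg.Agent.PLocal.PConstrainedLocal.isPConstrained_normalizer_centralizer hD hu).2
  set E : Subgroup D := centralizer ((zpowers u : Subgroup D) : Set D) with hE
  -- the group `E` in `X`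
  have hEt : E.map D.subtype ≤ centralizer ({t} : Set X) := by
    rintro _ ⟨x, hx, rfl⟩
    rw [mem_centralizer_singleton_iff]
    exact (congrArg Subtype.val (mem_centralizer_iff.1 hx u (mem_zpowers u))).symm
  have hJE : J ≤ E.map D.subtype := by
    intro x hx
    refine ⟨⟨x, hJD hx⟩, ?_, rfl⟩
    rw [SetLike.mem_coe, hE, mem_centralizer_iff]
    intro y hy
    obtain ⟨k, rfl⟩ := mem_zpowers_iff.1 hy
    have h4 : Commute x t := (mem_centralizer_singleton_iff.1 (hJt hx))
    exact Subtype.ext (h4.zpow_right k).symm.eq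
  let f : E →* centralizer ({t} : Set X) :=
    { toFun := fun x => ⟨((x : D) : X), hEt ⟨x, x.2, rfl⟩⟩
      map_one' := rfl
      map_mul' := fun _ _ => rfl }
  let J' : Subgroup E := (J.subgroupOf (centralizer ({t} : Set X))).comap f
  have hJ' : J'.IsSubnormal := hs.comap f
  have hmap : (J'.map E.subtype).map D.subtype = J := by
    apply le_antisymm
    · rintro _ ⟨_, ⟨x, hx, rfl⟩, rfl⟩
      exact hx
    · intro x hx
      obtain ⟨y, hy, hyx⟩ := hJE hx
      refine ⟨y, ⟨⟨y, hy⟩, ?_, rfl⟩, hyx⟩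
      change D.subtype y ∈ J
      rw [hyx]
      exact hx
  have e1 : J' ≃* J := by
    have e2 : J' ≃* J'.map E.subtype := J'.equivMapOfInjective _ E.subtype_injective
    have e3 : J'.map E.subtype ≃* (J'.map E.subtype).map D.subtype :=
      (J'.map E.subtype).equivMapOfInjective _ D.subtype_injective
    exact e2.trans (e3.trans (MulEquiv.subgroupCongr hmap))
  have hc : IsComponent J' := ⟨hJ', isQuasisimple_of_mulEquiv e1.symm hq⟩
  have h4 : IsPComponent 2 J' := Cfsg.Agent.SignalizersComponents.EvenComponent.isPComponent_of_isComponent hc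
    (by rw [Nat.card_congr e1.toEquiv]; exact h2)
  have h5 : pLayer 2 E = ⊥ :=
    (Cfsg.Agent.SignalizersComponents.PConstrained.isPConstrained_iff_pLayer_eq_bot 2).1 h3
  have h6 : J' ≤ pLayer 2 E := le_sSup h4
  rw [h5, le_bot_iff] at h6
  have h7 : Nat.card J' = 1 := by rw [h6, card_bot]
  rw [← Nat.card_congr e1.toEquiv, h7] at h2
  omega

/-- `2 ≠ 0` in a finite field of odd order -/
theorem two_ne_of_odd {F : Type*} [Field F] [Fintype F] (h : Odd (Fintype.card F)) : (2 : F) ≠ 0 := by
  intro h2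
  have h3 : ringChar F ≠ 2 := by
    intro h3
    have h4 := FiniteField.even_card_iff_char_two.1 h3
    rw [Nat.odd_iff] at h
    omega
  exact Ring.two_ne_zero h3 h2

/-- **Some 2-central involution centralizes a long `SL₂(q)`, `q > 3` odd.** -/
theorem exists_central [Finite X] {j : X} {J : Subgroup X} (hj : orderOf j = 2) (hjJ : j ∈ J)
    (hJ : J ≤ centralizer ({j} : Set X)) (hs : (J.subgroupOf (centralizer ({j} : Set X))).IsSubnormal)
    {F : Type*} [Field F] [Fintype F] (ho : Odd (Fintype.card F)) (h3 : 3 < Fintype.card F)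
    (e : J ≃* Matrix.SpecialLinearGroup (Fin 2) F) :
    ∃ z : X, IsTwoCentralInvolution z ∧ J ≤ centralizer ({z} : Set X) := by
  have : Fact (Nat.Prime 2) := ⟨Nat.prime_two⟩
  have h2F : (2 : F) ≠ 0 := two_ne_of_odd ho
  have hq : IsQuasisimple J := isQuasisimple_of_mulEquiv e.symm
    (Cfsg.Agent.SignalizersComponents.SLQuasisimple.isQuasisimple_two (by rw [Nat.card_eq_fintype_card]; omega))
  let C := centralizer ({j} : Set X)
  have hc : IsComponent (J.subgroupOf C) := ⟨hs, isQuasisimple_of_mulEquiv (subgroupOfEquivOfLe hJ).symm hq⟩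
  -- a Sylow 2-subgroup of `C` in a Sylow 2-subgroup of `X`
  obtain ⟨S0⟩ : Nonempty (Sylow 2 C) := inferInstance
  obtain ⟨S, hS⟩ := (S0.isPGroup'.map C.subtype).exists_le_sylow
  have hj1 : j ≠ 1 := fun h => by rw [h, orderOf_one] at hj; omega
  have hjc : ∀ c ∈ C, j * c = c * j := fun c hc => (mem_centralizer_singleton_iff.1 hc).symm
  have hjC : j ∈ C := hJ hjJ
  have hjS0 : (⟨j, hjC⟩ : C) ∈ S0 := by
    have hz : zpowers (⟨j, hjC⟩ : C) ≤ center C := by
      rw [zpowers_le, mem_center_iff]
      intro c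
      exact Subtype.ext (hjc c c.2).symm
    have hn : (zpowers (⟨j, hjC⟩ : C)).Normal := by
      constructor
      intro x hx g
      rw [mem_center_iff.1 (hz hx) g, mul_inv_cancel_right]
      exact hx
    have hp : IsPGroup 2 (zpowers (⟨j, hjC⟩ : C)) := by
      refine IsPGroup.of_card (n := 1) ?_
      rw [Nat.card_zpowers, Subgroup.orderOf_mk, hj, pow_one]
    exact (hp.le_sylow_of_normal S0) (mem_zpowers _)
  have hjS : j ∈ S := hS ⟨_, hjS0, rfl⟩
  -- an involution of the centre of `S`
  have hSn : Nontrivial S := ⟨⟨⟨j, hjS⟩, 1, fun h => hj1 (congrArg Subtype.val h)⟩⟩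
  have hZ := S.isPGroup'.center_nontrivial
  have hZp : IsPGroup 2 (center S) := S.isPGroup'.to_subgroup _
  obtain ⟨n, hn0, hn⟩ := hZp.nontrivial_iff_card.1 hZ
  obtain ⟨w, hw⟩ := exists_prime_orderOf_dvd_card' (G := center S) 2 (by rw [hn]; exact dvd_pow_self 2 hn0.ne')
  let z : X := ((w : S) : X)
  have hz2 : orderOf z = 2 := by
    change orderOf (((w : S) : X)) = 2
    rw [Subgroup.orderOf_coe, Subgroup.orderOf_coe, hw]
  have hzS : z ∈ S := (w : S).2
  have hzc : ∀ x ∈ S, x * z = z * x := by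
    intro x hx
    exact congrArg Subtype.val (mem_center_iff.1 w.2 ⟨x, hx⟩)
  have hz : IsTwoCentralInvolution z := ⟨hz2, S, hzS, hzc⟩
  have hzC : z ∈ C := mem_centralizer_singleton_iff.2 (hzc j hjS).symm
  have hzz : z * z = 1 := by rw [← pow_two, ← hz2, pow_orderOf_eq_one]
  -- `T = S0 ∩ J`
  obtain ⟨P, hP⟩ := Cfsg.Agent.S0542.result 2 (J.subgroupOf C) hs S0
  have hTz : ∀ x ∈ J, ∀ hx : x ∈ C, (⟨x, hx⟩ : C) ∈ S0 → z * x = x * z := by
    intro x _ hx hxS
    exact (hzc x (hS ⟨_, hxS, rfl⟩)).symm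
  let f : J.subgroupOf C ≃* Matrix.SpecialLinearGroup (Fin 2) F := (subgroupOfEquivOfLe hJ).trans e
  obtain ⟨x, hx, y, hy, hxy⟩ := Cfsg.Agent.LFourB.FixQuat.exists_not_comm h2F
    (P.mapSurjective (f := f.toMonoidHom) f.surjective)
  obtain ⟨x, hx, rfl⟩ := hx
  obtain ⟨y, hy, rfl⟩ := hy
  have hxS0 : (x : C) ∈ S0 := by
    have : x ∈ (P : Subgroup (J.subgroupOf C)) := hx
    rw [hP, mem_subgroupOf] at this
    exact this
  have hyS0 : (y : C) ∈ S0 := by
    have : y ∈ (P : Subgroup (J.subgroupOf C)) := hy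
    rw [hP, mem_subgroupOf] at this
    exact this
  have hxy' : (x : C) * y ≠ y * x := by
    intro h
    apply hxy
    have h' : x * y = y * x := Subtype.ext h
    rw [← map_mul, h', map_mul]
  -- `z` normalises `J`
  have hzJ : (J.subgroupOf C).map (MulAut.conj (⟨z, hzC⟩ : C)).toMonoidHom = J.subgroupOf C := by
    by_contra hne
    have h1 := component_commutator_eq_bot_of_ne (isComponent_conj (⟨z, hzC⟩ : C) hc) hc hne
    have h2 := commutator_eq_bot_iff_le_centralizer.1 h1
    have h3 : (x : C) ∈ (J.subgroupOf C).map (MulAut.conj (⟨z, hzC⟩ : C)).toMonoidHom := by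
      refine ⟨x, x.2, ?_⟩
      have h4 : z * ((x : C) : X) = ((x : C) : X) * z := hTz _ (mem_subgroupOf.1 x.2) (x : C).2 hxS0
      refine Subtype.ext ?_
      change z * ((x : C) : X) * z⁻¹ = ((x : C) : X)
      rw [h4, mul_inv_cancel_right]
    exact hxy' (mem_centralizer_iff.1 (h2 h3) y y.2).symm
  have hzn : z ∈ normalizer (J : Set X) := by
    have h1 : ∀ g ∈ J, z * g * z⁻¹ ∈ J := by
      intro g hg
      have h2 : (MulAut.conj (⟨z, hzC⟩ : C)) ⟨g, hJ hg⟩ ∈ J.subgroupOf C := by
        rw [← hzJ]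
        exact ⟨⟨g, hJ hg⟩, mem_subgroupOf.2 hg, rfl⟩
      exact h2
    rw [mem_normalizer_iff]
    intro g
    refine ⟨h1 g, fun h => ?_⟩
    have h3 := h1 _ h
    have h4 : z⁻¹ = z := inv_eq_of_mul_eq_one_left hzz
    rw [h4] at h3
    rwa [show z * (z * g * z) * z = (z * z) * g * (z * z) by group, hzz, one_mul, mul_one] at h3
  -- `z` centralises `J`
  have hzcent : ∀ a ∈ J, z * a = a * z := by
    refine Cfsg.Agent.LFourB.FixQuat.centralizes h2F e (Q := (S0 : Subgroup C).map C.subtype)
      (S0.isPGroup'.map C.subtype) ?_ hzn (fun a _ => by rw [hzz, one_mul, mul_one]) ?_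
    · have h1 : ((S0 : Subgroup C).subgroupOf (J.subgroupOf C)).index = ((S0 : Subgroup C)).relIndex (J.subgroupOf C) := rfl
      have h2 : ¬ 2 ∣ ((S0 : Subgroup C)).relIndex (J.subgroupOf C) := by
        rw [← h1, ← hP]
        exact P.not_dvd_index
      have h3 : ((S0 : Subgroup C).map C.subtype).relIndex J = ((S0 : Subgroup C)).relIndex (J.subgroupOf C) := by
        have h4 : J = (J.subgroupOf C).map C.subtype := (map_subgroupOf_eq_of_le hJ).symm
        conv_lhs => rw [h4]
        exact relIndex_map_map_of_injective _ _ C.subtype_injective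
      rw [h3, ← Nat.not_even_iff_odd, even_iff_two_dvd]
      exact h2
    · intro x hx
      exact (hzc x (hS hx)).symm
  have hJz : J ≤ centralizer ({z} : Set X) := fun a ha => mem_centralizer_singleton_iff.2 (hzcent a ha).symm
  exact ⟨z, hz, hJz⟩

/-- **No long `SL₂(q)`, `q > 3`, if the centralizers of the 2-central involutions are 2-constrained.** -/
theorem false_of_sl [Finite X] (hC : ∀ z : X, IsTwoCentralInvolution z → IsPConstrained 2 (centralizer ({z} : Set X)))
    {j : X} {J : Subgroup X} (hj : orderOf j = 2) (hjJ : j ∈ J)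
    (hJ : J ≤ centralizer ({j} : Set X)) (hs : (J.subgroupOf (centralizer ({j} : Set X))).IsSubnormal)
    {F : Type*} [Field F] [Fintype F] (ho : Odd (Fintype.card F)) (h3 : 3 < Fintype.card F)
    (e : J ≃* Matrix.SpecialLinearGroup (Fin 2) F) : False := by
  obtain ⟨z, hz, hJz⟩ := exists_central hj hjJ hJ hs ho h3 e
  have hq : IsQuasisimple J := isQuasisimple_of_mulEquiv e.symm
    (Cfsg.Agent.SignalizersComponents.SLQuasisimple.isQuasisimple_two (by rw [Nat.card_eq_fintype_card]; omega))
  refine not_con (hC z hz) (t := j) ?_ (hJz hjJ) hJz hJ hs hq ?_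
  · exact IsPGroup.of_card (n := 1) (by rw [Nat.card_zpowers, hj, pow_one])
  · rw [← hj, ← Subgroup.orderOf_mk j hjJ]
    exact orderOf_dvd_natCard _

theorem false_of_long [Finite X]
    (hC : ∀ z : X, IsTwoCentralInvolution z → IsPConstrained 2 (centralizer ({z} : Set X))) {q : ℕ}
    (h : Cfsg.Agent.OddHalf.LongSL.HasLong q X) (hq : 3 < q) : False := by
  obtain ⟨j, J, h1, h2, h3, h4, F, i1, i2, h5, h6, ⟨e⟩⟩ := h
  exact false_of_sl hC h1 h2 h3 h4 (h5 ▸ h6) (by rw [h5]; exact hq) e

end Cfsg.Agent.H326.LongCon
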