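import Mathlib
import Cfsg.Agent.H326.Models
import Cfsg.Agent.ChevalleyStructure.NineField
import Cfsg.Agent.LieClassical.SUBasic
import Cfsg.Agent.CTwoTab.Card
import Cfsg.Agent.KFacts.MM.Main

/-!
# Normal elementary abelian subgroups of order 8 in Sylow 2-subgroups, II (helper326)

`PSL₃(4)`, `PSU₄(3)`, `M₂₂`, `M₂₃`.
-/

set_option autoImplicit false
set_option maxRecDepth 10000

open Subgroup Equiv Cfsg

namespace Cfsg.Agent.H326.ModelsB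

open Cfsg.Agent.GH.Pc Cfsg.Agent.GH.PcTypes Cfsg.Agent.GH.Models.Proj
open Cfsg.Agent.H326.NormEight Cfsg.Agent.H326.PcEight Cfsg.Agent.H326.Models

/-! ### `PSL₃(4)` -/

/-- translation by `m` -/
def tr (m : ℕ) (x : Fin 16) : Fin 16 := Fin.ofNat 16 (x.val ^^^ m)

def fa (x : Fin 16) : Fin 16 := Fin.ofNat 16 (x.val ^^^ (4 * (x.val % 2)) ^^^ (8 * ((x.val / 2) % 2)))

def fb (x : Fin 16) : Fin 16 := Fin.ofNat 16 (x.val ^^^ (8 * (x.val % 2)) ^^^ (12 * ((x.val / 2) % 2)))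

def ut : Fin 6 → Perm (Fin 16) := ![
  ⟨fa, fa, by decide +kernel, by decide +kernel⟩, ⟨fb, fb, by decide +kernel, by decide +kernel⟩,
  ⟨tr 1, tr 1, by decide +kernel, by decide +kernel⟩, ⟨tr 2, tr 2, by decide +kernel, by decide +kernel⟩,
  ⟨tr 4, tr 4, by decide +kernel, by decide +kernel⟩, ⟨tr 8, tr 8, by decide +kernel, by decide +kernel⟩]

theorem sat_ut : Sat UT34 ut := ⟨by decide +kernel, by decide +kernel⟩

theorem nf_ut : allB 6 (chkNf ut) = true := by decide +kernel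

theorem type_ut : IsType UT34 ↥(closure (Set.range ut)) := isType_of_model UT34_ok sat_ut (nf_of_chk nf_ut)

theorem psl34 {G : Type*} [Group G] [Finite G] {F : Type} [Field F] [Fintype F] (hF : Fintype.card F = 4)
    (e : G ≃* Matrix.ProjectiveSpecialLinearGroup (Fin 3) F) (T : Sylow 2 G) : NE8 ↥(T : Subgroup G) := by
  have : Finite (Matrix.ProjectiveSpecialLinearGroup (Fin 3) F) := Finite.of_equiv _ e.toEquiv
  exact of_equiv e (of_sylOf (Cfsg.Agent.GH.Models.UT34.sylOf type_ut F hF) (UT34_ne8 type_ut) default) T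

/-! ### `M₂₂`, `M₂₃` -/

open Cfsg.Agent.OddHalf.MM in
theorem of_sheet {K : Type*} [Group K] [Finite K] {SK V W : Subgroup K} {z c : K} (h : Sheet SK V W z c)
    (T : Sylow 2 K) : NE8 ↥(T : Subgroup K) := by
  have : Fact (Nat.Prime 2) := ⟨Nat.prime_two⟩
  obtain ⟨P, hP⟩ := h.two.exists_le_sylow
  have h1 : (P : Subgroup K) = SK := h.max P P.isPGroup' hP
  refine of_conj (S := P) ?_ T
  rw [h1]
  refine ⟨V.subgroupOf SK, ?_, ?_, ?_⟩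
  · constructor
    intro x hx g
    exact (h.nV g g.2 x).2 hx
  · intro x hx
    exact Subtype.ext (h.elV x hx)
  · rw [Nat.card_congr (subgroupOfEquivOfLe h.VS).toEquiv, h.cardV]
    norm_num

theorem m22 {G : Type*} [Group G] [Finite G] (h : Cfsg.Spor.IsoM22 G) (T : Sylow 2 G) :
    NE8 ↥(T : Subgroup G) := by
  obtain ⟨e⟩ := h
  have : Finite Cfsg.Spor.M22 := Finite.of_equiv _ e.toEquiv
  obtain ⟨SK, V, W, z, c, hs⟩ := Cfsg.Agent.KFacts.MM.Main.sheet22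
  exact of_equiv e (of_sheet hs default) T

theorem m23 {G : Type*} [Group G] [Finite G] (h : Cfsg.Spor.IsoM23 G) (T : Sylow 2 G) :
    NE8 ↥(T : Subgroup G) := by
  obtain ⟨e⟩ := h
  have : Finite Cfsg.Spor.M23 := Finite.of_equiv _ e.toEquiv
  obtain ⟨SK, V, W, z, c, hs⟩ := Cfsg.Agent.KFacts.MM.Main.sheet23
  exact of_equiv e (of_sheet hs default) T

/-! ### `PSU₄(3)` -/

section u43

open Matrix Cfsg.Agent.ChevalleyStructure.NineField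

/-- the Sylow 2-subgroup of `PSU₄(3)`: `s d₁ d₂` and four generators of the normal subgroup of order 16 -/
def PU : Pres 7 where
  sq i := match i.val with
    | 1 => [3]
    | 2 => [4]
    | _ => []
  cj := cjOf fun i j => match i, j with
    | 0, 1 => some [2]
    | 0, 2 => some [1]
    | 0, 3 => some [4]
    | 0, 4 => some [3]
    | 0, 5 => some [3, 6]
    | 0, 6 => some [4, 5]
    | 1, 5 => some [3, 4, 5]
    | 1, 6 => some [3, 6]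
    | 2, 5 => some [4, 5]
    | 2, 6 => some [3, 4, 6]
    | _, _ => none

theorem PU_ok : PU.Ok := by decide

theorem chk_pu : Chk PU 3 := by decide +kernel

/-- the matrices -/
def A : Fin 7 → Matrix (Fin 4) (Fin 4) F9 := ![
  !![⟨1,0⟩,⟨0,0⟩,⟨0,0⟩,⟨0,0⟩; ⟨0,0⟩,⟨0,0⟩,⟨1,0⟩,⟨0,0⟩; ⟨0,0⟩,⟨1,0⟩,⟨0,0⟩,⟨0,0⟩; ⟨0,0⟩,⟨0,0⟩,⟨0,0⟩,⟨2,0⟩],
  !![⟨1,0⟩,⟨0,0⟩,⟨0,0⟩,⟨0,0⟩; ⟨0,0⟩,⟨0,1⟩,⟨0,0⟩,⟨0,0⟩; ⟨0,0⟩,⟨0,0⟩,⟨1,0⟩,⟨0,0⟩; ⟨0,0⟩,⟨0,0⟩,⟨0,0⟩,⟨0,2⟩],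
  !![⟨1,0⟩,⟨0,0⟩,⟨0,0⟩,⟨0,0⟩; ⟨0,0⟩,⟨1,0⟩,⟨0,0⟩,⟨0,0⟩; ⟨0,0⟩,⟨0,0⟩,⟨0,1⟩,⟨0,0⟩; ⟨0,0⟩,⟨0,0⟩,⟨0,0⟩,⟨0,2⟩],
  !![⟨1,0⟩,⟨0,0⟩,⟨0,0⟩,⟨0,0⟩; ⟨0,0⟩,⟨2,0⟩,⟨0,0⟩,⟨0,0⟩; ⟨0,0⟩,⟨0,0⟩,⟨1,0⟩,⟨0,0⟩; ⟨0,0⟩,⟨0,0⟩,⟨0,0⟩,⟨2,0⟩],
  !![⟨1,0⟩,⟨0,0⟩,⟨0,0⟩,⟨0,0⟩; ⟨0,0⟩,⟨1,0⟩,⟨0,0⟩,⟨0,0⟩; ⟨0,0⟩,⟨0,0⟩,⟨2,0⟩,⟨0,0⟩; ⟨0,0⟩,⟨0,0⟩,⟨0,0⟩,⟨2,0⟩],
  !![⟨0,0⟩,⟨1,0⟩,⟨0,0⟩,⟨0,0⟩; ⟨1,0⟩,⟨0,0⟩,⟨0,0⟩,⟨0,0⟩; ⟨0,0⟩,⟨0,0⟩,⟨0,0⟩,⟨1,0⟩; ⟨0,0⟩,⟨0,0⟩,⟨1,0⟩,⟨0,0⟩],
  !![⟨0,0⟩,⟨0,0⟩,⟨1,0⟩,⟨0,0⟩; ⟨0,0⟩,⟨0,0⟩,⟨0,0⟩,⟨1,0⟩; ⟨1,0⟩,⟨0,0⟩,⟨0,0⟩,⟨0,0⟩; ⟨0,0⟩,⟨1,0⟩,⟨0,0⟩,⟨0,0⟩]]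

theorem det_A : ∀ i, (A i).det = 1 := by decide +kernel

theorem sq_A : ∀ i, ∃ c : F9, A i * A i = c • wd A (PU.sq i) := by decide +kernel

theorem cj_A : ∀ i j, i < j → ∃ c : F9, A i * A j = c • (wd A (PU.cj i j) * A i) := by
  decide +kernel

theorem nf_A : allB 7 (chk A) = true := by decide +kernel

/-- conjugation -/
def cc : F9 →+* F9 where
  toFun x := ⟨x.re, -x.im⟩
  map_one' := by decide +kernel
  map_zero' := by decide +kernel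
  map_mul' := by decide +kernel
  map_add' := by decide +kernel

theorem cc_apply : ∀ x : F9, cc x = x ^ 3 := by decide +kernel

theorem herm_A : ∀ i, (A i)ᵀ * (A i).map cc = 1 := by decide +kernel

theorem dot_mulVec {n : ℕ} {K : Type*} [Field K] (A B : Matrix (Fin n) (Fin n) K) (u v : Fin n → K) :
    (A *ᵥ u) ⬝ᵥ (B *ᵥ v) = u ⬝ᵥ ((Aᵀ * B) *ᵥ v) := by
  rw [← Matrix.mulVec_mulVec, Matrix.dotProduct_mulVec u, Matrix.vecMul_transpose]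

theorem mem_su {n q : ℕ} {K : Type*} [Field K] (σ : K →+* K) (hσ : ∀ x, σ x = x ^ q)
    (g : Matrix.SpecialLinearGroup (Fin n) K)
    (h : (g : Matrix (Fin n) (Fin n) K)ᵀ * (g : Matrix (Fin n) (Fin n) K).map σ = 1) :
    g ∈ SU n K q := by
  intro u v
  have e1 : ∀ x y : Fin n → K, hermForm n K q x y = x ⬝ᵥ (fun i => σ (y i)) := by
    intro x y
    unfold hermForm dotProduct
    exact Finset.sum_congr rfl fun i _ => by simp only [hσ]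
  have e2 : slToMat n K g = (g : Matrix (Fin n) (Fin n) K) := rfl
  have e3 : (fun i => σ (((g : Matrix (Fin n) (Fin n) K) *ᵥ v) i)) =
      ((g : Matrix (Fin n) (Fin n) K).map σ) *ᵥ (fun i => σ (v i)) := by
    funext i
    simp only [Matrix.mulVec, dotProduct, map_sum, map_mul, Matrix.map_apply]
  rw [e1, e1, e2, e3, dot_mulVec, h, Matrix.one_mulVec]

/-- inclusion in the matrices -/
def incU : SU 4 F9 3 →* Matrix (Fin 4) (Fin 4) F9 where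
  toFun A := A.1.1
  map_one' := rfl
  map_mul' _ _ := rfl

theorem mk_eqU {X Y : SU 4 F9 3} {c : F9} (h : X.1.1 = c • Y.1.1) :
    (QuotientGroup.mk X : PSU 4 F9 3) = QuotientGroup.mk Y := by
  have hZ : c • (X⁻¹ * Y).1.1 = 1 := by
    have h1 : (X⁻¹ * X).1.1 = 1 := by rw [inv_mul_cancel]; rfl
    rw [← h1]
    change c • ((X⁻¹).1.1 * Y.1.1) = (X⁻¹).1.1 * X.1.1
    rw [h, Matrix.mul_smul]
  have hc : c ≠ 0 := by
    rintro rfl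
    rw [zero_smul] at hZ
    exact zero_ne_one hZ
  refine QuotientGroup.eq.2 (Subgroup.mem_center_iff.2 fun g => Subtype.ext (Subtype.ext ?_))
  change g.1.1 * (X⁻¹ * Y).1.1 = (X⁻¹ * Y).1.1 * g.1.1
  have h2 : c • (g.1.1 * (X⁻¹ * Y).1.1) = c • ((X⁻¹ * Y).1.1 * g.1.1) := by
    rw [← Matrix.mul_smul, hZ, Matrix.mul_one, ← Matrix.smul_mul, hZ, Matrix.one_mul]
  have h3 := congrArg (fun M => c⁻¹ • M) h2
  simpa only [smul_smul, inv_mul_cancel₀ hc, one_smul] using h3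

theorem card_F9 : Fintype.card F9 = 9 := by decide +kernel

theorem scalar_of_mkU {X : SU 4 F9 3} (h : (QuotientGroup.mk X : PSU 4 F9 3) = 1) :
    ∃ c : F9, X.1.1 = c • 1 := by
  have h1 : X ∈ Subgroup.center (SU 4 F9 3) := (QuotientGroup.eq_one_iff X).1 h
  obtain ⟨c, h2, h3, h4⟩ := (Cfsg.Agent.LieClassical.SUBasic.mem_center_SU_iff
    (by rw [card_F9]; norm_num) (by norm_num) X).1 h1
  refine ⟨c, ?_⟩
  rw [h4, Matrix.smul_one_eq_diagonal]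
  rfl

/-- the elements of `SU₄(3)` -/
def Y (i : Fin 7) : SU 4 F9 3 := ⟨⟨A i, det_A i⟩, mem_su cc cc_apply _ (herm_A i)⟩

/-- the elements of `PSU₄(3)` -/
def y (i : Fin 7) : PSU 4 F9 3 := QuotientGroup.mk (Y i)

theorem word_y (l : List (Fin 7)) : word y l = QuotientGroup.mk (word Y l) :=
  (map_word (QuotientGroup.mk' (Subgroup.center (SU 4 F9 3))) Y l).symm

theorem word_Y (l : List (Fin 7)) : (word Y l).1.1 = wd A l := map_wd incU Y l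

theorem sat_y : Sat PU y := by
  constructor
  · intro i
    rw [word_y]
    obtain ⟨c, hc⟩ := sq_A i
    refine mk_eqU (X := Y i * Y i) (c := c) ?_
    rw [word_Y]
    exact hc
  · intro i j hij
    rw [word_y]
    obtain ⟨c, hc⟩ := cj_A i j hij
    refine mk_eqU (X := Y i * Y j) (Y := word Y (PU.cj i j) * Y i) (c := c) ?_
    change A i * A j = c • ((word Y (PU.cj i j)).1.1 * A i)
    rw [word_Y]
    exact hc

theorem nf_y (e : Fin 7 → Bool) (he : nf y e = 1) : e = fun _ => false := by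
  have h1 := allB_spec nf_A e
  rw [chk, Bool.or_eq_true] at h1
  rcases h1 with h1 | h1
  · exact isZ_spec h1
  · exfalso
    rw [Bool.not_eq_true', decide_eq_false_iff_not] at h1
    apply h1
    unfold nf at he
    rw [word_y] at he
    obtain ⟨c, hc⟩ := scalar_of_mkU he
    exact ⟨c, by rw [← word_Y]; exact hc⟩

theorem psu43_aux (T : Sylow 2 (PSU 4 F9 3)) : NE8 ↥(T : Subgroup (PSU 4 F9 3)) := by
  have hc : Nat.card (PSU 4 F9 3) = 3265920 := Cfsg.Agent.CTwoTab.card_psu_four_three card_F9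
  have : Finite (PSU 4 F9 3) := Nat.finite_of_card_ne_zero (by rw [hc]; norm_num)
  exact ne8_of_sat PU_ok sat_y nf_y (by rw [hc]; norm_num) chk_pu (by norm_num) T

theorem psu43 {G : Type*} [Group G] [Finite G] {F : Type*} [Field F] [Fintype F] (hF : Fintype.card F = 9)
    (e : G ≃* PSU 4 F 3) (T : Sylow 2 G) : NE8 ↥(T : Subgroup G) := by
  have φ : F ≃+* F9 := FiniteField.ringEquivOfCardEq (by rw [hF, card_F9])
  have e' : G ≃* PSU 4 F9 3 := e.trans (Cfsg.Agent.ChevalleyStructure.FieldIso.PSUEquiv 4 3 φ)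
  have : Finite (PSU 4 F9 3) := Finite.of_equiv _ e'.toEquiv
  exact of_equiv e' (psu43_aux default) T

end u43

end Cfsg.Agent.H326.ModelsB
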