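import Mathlib
import Cfsg.Agent.GH.FinalInd
import Cfsg.Agent.GH.AltOut
import Cfsg.Agent.TypeM.FactsMcL
import Cfsg.Agent.TypeM.FactsLy
import Cfsg.Agent.TypeUSz.Inv
import Cfsg.Agent.S1069
import Cfsg.Agent.SporRec.J1.Words
import Cfsg.Agent.Classification.NonConnOrders
import Cfsg.Agent.OddHalf.LongSL.Mat
import Cfsg.Agent.OddHalf.LongSL.Exc
import Cfsg.Agent.OddTab.D4Short
import Cfsg.Agent.H326.Models
import Cfsg.Agent.H326.ModelsB
import Cfsg.Agent.H326.LongCon
import Cfsg.Agent.H326.LFiveThree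

/-!
# Simple groups without normal elementary abelian subgroups of order 8 in a Sylow 2-subgroup and with 2-constrained
centralizers of 2-central involutions (helper326)
-/

set_option autoImplicit false

open Subgroup Cfsg

namespace Cfsg.Agent.H326.CHZ

open Cfsg.Agent.GH.Defs Cfsg.Agent.GH.AssemblyK4
open Cfsg.Agent.H326.NormEight Cfsg.Agent.H326.LongCon
open Cfsg.Agent.OddHalf.LongSL

/-- the conclusion of S3272 -/
def Concl (G : Type*) [Group G] : Prop :=
    (∃ (F : Type) (_ : Field F) (_ : Fintype F), Nonempty (G ≃* Matrix.ProjectiveSpecialLinearGroup (Fin 2) F)) ∨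
      Nonempty (G ≃* ↥(alternatingGroup (Fin 7))) ∨ Cfsg.IsM11 G ∨
      (∃ (F : Type) (_ : Field F) (_ : Fintype F), Fintype.card F = 3 ∧ Nonempty (G ≃* Matrix.ProjectiveSpecialLinearGroup (Fin 3) F)) ∨
      (∃ (F : Type) (_ : Field F) (_ : Fintype F), Fintype.card F = 9 ∧ Nonempty (G ≃* Cfsg.PSU 3 F 3)) ∨
      (∃ (F : Type) (_ : Field F) (_ : Fintype F), Fintype.card F = 16 ∧ Nonempty (G ≃* Cfsg.PSU 3 F 4)) ∨
      Cfsg.IsJ2 G ∨ Cfsg.IsJ3 G

section gen

variable {G : Type*} [Group G] [Finite G]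

/-- the centralizers of the 2-central involutions are 2-constrained -/
theorem constrained (T : Sylow 2 G)
    (hC : ∀ t ∈ (T : Subgroup G), orderOf t = 2 →
      (Subgroup.centralizer ({t} : Set G) ⊓ (T : Subgroup G)).relIndex (T : Subgroup G) ≤ 2 →
        Cfsg.IsPConstrained 2 ↥(Subgroup.centralizer ({t} : Set G))) (z : G) (hz : IsTwoCentralInvolution z) :
    IsPConstrained 2 (centralizer ({z} : Set G)) := by
  have : Fact (Nat.Prime 2) := ⟨Nat.prime_two⟩
  obtain ⟨h2, P, hP, hc⟩ := hz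
  obtain ⟨g, hg⟩ := MulAction.exists_smul_eq G P T
  have hmem : ∀ x, x ∈ (P : Subgroup G) → g * x * g⁻¹ ∈ (T : Subgroup G) := by
    intro x hx
    rw [← hg]
    exact ⟨x, hx, rfl⟩
  have hmem' : ∀ y, y ∈ (T : Subgroup G) → ∃ x ∈ (P : Subgroup G), y = g * x * g⁻¹ := by
    intro y hy
    rw [← hg] at hy
    obtain ⟨x, hx, rfl⟩ := hy
    exact ⟨x, hx, rfl⟩
  have hle : (T : Subgroup G) ≤ centralizer ({g * z * g⁻¹} : Set G) := by
    intro y hy
    obtain ⟨x, hx, rfl⟩ := hmem' y hy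
    rw [mem_centralizer_singleton_iff]
    have := hc x hx
    calc g * x * g⁻¹ * (g * z * g⁻¹) = g * (x * z) * g⁻¹ := by group
      _ = g * (z * x) * g⁻¹ := by rw [this]
      _ = _ := by group
  have ho : orderOf (g * z * g⁻¹) = 2 := by
    rw [← h2]
    exact orderOf_injective (MulAut.conj g).toMonoidHom (MulAut.conj g).injective z
  have h3 := hC (g * z * g⁻¹) (hmem z hP) ho (by
    rw [inf_eq_right.2 hle, relIndex_self]
    norm_num)
  have e : centralizer ({z} : Set G) ≃* centralizer ({g * z * g⁻¹} : Set G) := by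
    have h4 : (centralizer ({z} : Set G)).map (MulAut.conj g).toMonoidHom = centralizer ({g * z * g⁻¹} : Set G) :=
      map_centralizer_singleton (MulAut.conj g) z
    exact ((centralizer ({z} : Set G)).equivMapOfInjective _ (MulAut.conj g).injective).trans
      (MulEquiv.subgroupCongr h4)
  exact (Cfsg.Agent.PLocal.PConstrained.isPConstrained_congr e).2 h3

/-- a group of order `8 · odd` of 2-rank at least 3 -/
theorem ne8_of_card {G : Type*} [Group G] [Finite G] (hr : ¬ PRankLE 2 2 G) (h16 : ¬ 16 ∣ Nat.card G)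
    (T : Sylow 2 G) : NE8 ↥(T : Subgroup G) := by
  have : Fact (Nat.Prime 2) := ⟨Nat.prime_two⟩
  unfold PRankLE at hr
  push Not at hr
  obtain ⟨A, hA, hA2, hc⟩ := hr
  have hp : IsPGroup 2 A := fun a => ⟨1, by
    rw [pow_one]
    exact Subtype.ext (hA2 a a.2)⟩
  obtain ⟨P, hP⟩ := hp.exists_le_sylow
  obtain ⟨n, hn⟩ := IsPGroup.iff_card.1 P.isPGroup'
  have h1 : n ≤ 3 := by
    by_contra h
    apply h16
    have h2 : 2 ^ 4 ∣ 2 ^ n := pow_dvd_pow 2 (by omega)
    have h3 : Nat.card P ∣ Nat.card G := card_subgroup_dvd_card _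
    rw [hn] at h3
    exact (by norm_num : (16 : ℕ) = 2 ^ 4) ▸ h2.trans h3
  obtain ⟨m, hm⟩ := IsPGroup.iff_card.1 hp
  have h3 : 3 ≤ m := by
    by_contra h
    have h4 : 2 ^ m ≤ 2 ^ 2 := Nat.pow_le_pow_right (by norm_num) (by omega)
    omega
  have h4 : 2 ^ 3 ≤ Nat.card A := by
    rw [hm]
    exact Nat.pow_le_pow_right (by norm_num) h3
  have h5 : A = (P : Subgroup G) := by
    apply Subgroup.eq_of_le_of_card_ge hP
    refine le_trans ?_ h4
    rw [hn]
    exact Nat.pow_le_pow_right (by norm_num) h1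
  refine of_conj (S := P) ?_ T
  rw [← h5]
  refine ⟨⊤, inferInstance, ?_, ?_⟩
  · rintro ⟨x, hx⟩ -
    apply Subtype.ext
    change x * x = 1
    rw [← pow_two]
    exact hA2 x hx
  · rw [card_top]
    exact le_trans (by norm_num) h4

/-- there is a 2-central involution -/
theorem exists_twoCentral {G : Type*} [Group G] [Finite G] {t : G} (ht : orderOf t = 2) :
    ∃ z : G, IsTwoCentralInvolution z := by
  have : Fact (Nat.Prime 2) := ⟨Nat.prime_two⟩
  have hp : IsPGroup 2 (zpowers t) := IsPGroup.of_card (n := 1) (by rw [Nat.card_zpowers, ht, pow_one])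
  obtain ⟨S, hS⟩ := hp.exists_le_sylow
  have ht1 : t ≠ 1 := fun h => by rw [h, orderOf_one] at ht; omega
  have hSn : Nontrivial S := ⟨⟨⟨t, hS (mem_zpowers t)⟩, 1, fun h => ht1 (congrArg Subtype.val h)⟩⟩
  have hZ := S.isPGroup'.center_nontrivial
  have hZp : IsPGroup 2 (center S) := S.isPGroup'.to_subgroup _
  obtain ⟨n, hn0, hn⟩ := hZp.nontrivial_iff_card.1 hZ
  obtain ⟨w, hw⟩ := exists_prime_orderOf_dvd_card' (G := center S) 2 (by rw [hn]; exact dvd_pow_self 2 hn0.ne')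
  refine ⟨((w : S) : G), ?_, S, (w : S).2, ?_⟩
  · rw [Subgroup.orderOf_coe, Subgroup.orderOf_coe, hw]
  · intro x hx
    exact congrArg Subtype.val (mem_center_iff.1 w.2 ⟨x, hx⟩)

theorem twoCentral_conj {G : Type*} [Group G] {z : G} (hz : IsTwoCentralInvolution z) (g : G) :
    IsTwoCentralInvolution (g * z * g⁻¹) := by
  obtain ⟨h2, P, hP, hc⟩ := hz
  refine ⟨?_, g • P, ⟨z, hP, rfl⟩, ?_⟩
  · rw [← h2]
    exact orderOf_injective (MulAut.conj g).toMonoidHom (MulAut.conj g).injective z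
  · rintro _ ⟨x, hx, rfl⟩
    change g * x * g⁻¹ * (g * z * g⁻¹) = g * z * g⁻¹ * (g * x * g⁻¹)
    calc g * x * g⁻¹ * (g * z * g⁻¹) = g * (x * z) * g⁻¹ := by group
      _ = g * (z * x) * g⁻¹ := by rw [hc x hx]
      _ = _ := by group

/-- one class of involutions -/
theorem alt_false {G : Type*} [Group G] [Finite G]
    (hC : ∀ z : G, IsTwoCentralInvolution z → IsPConstrained 2 (centralizer ({z} : Set G)))
    (h : HasAltCover G) (hone : ∃ s : G, ∀ u : G, u * u = 1 → u ≠ 1 → ∃ g, g * s * g⁻¹ = u) : False := by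
  have : Fact (Nat.Prime 2) := ⟨Nat.prime_two⟩
  obtain ⟨n, t, K, hn, hK, htK, hcov⟩ := h
  obtain ⟨s, hs⟩ := hone
  obtain ⟨z, hz⟩ := exists_twoCentral hK.inv
  have hsq : ∀ x : G, orderOf x = 2 → x * x = 1 ∧ x ≠ 1 := by
    intro x hx
    refine ⟨?_, fun h => ?_⟩
    · rw [← pow_two, ← hx, pow_orderOf_eq_one]
    · rw [h, orderOf_one] at hx
      omega
  obtain ⟨a, ha⟩ := hs t (hsq t hK.inv).1 (hsq t hK.inv).2
  obtain ⟨b, hb⟩ := hs z (hsq z hz.1).1 (hsq z hz.1).2
  have ht : IsTwoCentralInvolution t := by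
    have h1 := twoCentral_conj hz (a * b⁻¹)
    have h2 : a * b⁻¹ * z * (a * b⁻¹)⁻¹ = t := by
      rw [← ha, ← hb]
      group
    rwa [h2] at h1
  have h3 := (Cfsg.Agent.SignalizersComponents.PConstrained.isPConstrained_iff_pLayer_eq_bot 2).1 (hC t ht)
  have h4 : K.subgroupOf (centralizer ({t} : Set G)) ≤ pLayer 2 ↥(centralizer ({t} : Set G)) := le_sSup hK.comp.2
  rw [h3, le_bot_iff] at h4
  have h5 : (⟨t, hK.comp.le htK⟩ : centralizer ({t} : Set G)) ∈ K.subgroupOf (centralizer ({t} : Set G)) := htK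
  rw [h4, mem_bot] at h5
  exact (hsq t hK.inv).2 (congrArg Subtype.val h5)

end gen

section main

variable {G : Type*} [Group G] [Finite G] [IsSimpleGroup G]

theorem three_le_of_odd {n : ℕ} (h : Odd n) (h1 : 1 < n) : 3 ≤ n := by
  obtain ⟨k, rfl⟩ := h
  omega

/-- the groups of 2-rank at least 3 -/
theorem of_k4r (hna : ¬ IsMulCommutative G) (hO : oddCore G = ⊥) (h38 : Cfsg.Agent.GH.AltOut.St1738 G)
    (hr : ¬ PRankLE 2 2 G) (T : Sylow 2 G) (hT : ¬ NE8 ↥(T : Subgroup G))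
    (hC : ∀ z : G, IsTwoCentralInvolution z → IsPConstrained 2 (centralizer ({z} : Set G)))
    (h : K4r G) : Concl G := by
  rcases h with h | h | h | h | ⟨n, h1, h2, ⟨e⟩⟩ | h | h | h | h | h | ⟨h, -⟩ | ⟨h, -⟩ | h | h | h | h | h | h
  · -- `U₃(4)`
    exact Or.inr (Or.inr (Or.inr (Or.inr (Or.inr (Or.inl h)))))
  · rcases h with ⟨F, i, j, hF, e⟩ | ⟨F, _, _, hF, ⟨e⟩⟩ | h | h
    · exact Or.inl ⟨F, i, j, e⟩
    · -- `Sz(8)`
      exfalso
      have hF' : Fintype.card F = 2 ^ (2 * 1 + 1) := by rw [hF]; norm_num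
      have : Finite ↥(Lie.Sz F 4) := Finite.of_equiv _ e.toEquiv
      obtain ⟨S⟩ : Nonempty (Sylow 2 ↥(Lie.Sz F 4)) := inferInstance
      have h1 := Cfsg.Agent.TypeUSz.Inv.shape_sz (m := 1) le_rfl hF' S
      refine hT (of_equiv e (S := S) ⟨center S, inferInstance, fun x hx => h1.sq x hx, ?_⟩ T)
      exact le_of_le_of_eq (by norm_num : 8 ≤ 2 ^ (2 * 1 + 1)) h1.card_center.symm
    · -- Ree
      exfalso
      obtain ⟨K, _, _, m, hm, hK, ⟨e⟩⟩ := h
      refine hT (ne8_of_card hr ?_ T)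
      rw [Nat.card_congr e.toEquiv, Cfsg.Agent.S1069.result hK]
      intro h16
      have h3 : (3 ^ (2 * m + 1)) % 16 = 3 ∨ (3 ^ (2 * m + 1)) % 16 = 11 := by
        clear hm hK e h16
        induction m with
        | zero => left; norm_num
        | succ k ih =>
          have h4 : 3 ^ (2 * (k + 1) + 1) = 3 ^ (2 * k + 1) * 9 := by ring
          rw [h4, Nat.mul_mod]
          rcases ih with ih | ih <;> rw [ih] <;> norm_num
      generalize hq : 3 ^ (2 * m + 1) = q at h3 h16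
      have h5 : 1 ≤ q := by rw [← hq]; exact Nat.one_le_pow _ _ (by norm_num)
      obtain ⟨r, rfl⟩ : ∃ r, q = r + 1 := ⟨q - 1, by omega⟩
      rw [Nat.add_sub_cancel] at h16
      have h6 : r % 16 = 2 ∨ r % 16 = 10 := by omega
      have h7 := Nat.mod_eq_zero_of_dvd h16
      rcases h6 with h6 | h6
      · have h8 : ((r + 1) ^ 3 * r * ((r + 1) ^ 3 + 1)) % 16 = ((2 + 1) ^ 3 * 2 * ((2 + 1) ^ 3 + 1)) % 16 := by
          have : r ≡ 2 [MOD 16] := h6
          have h9 : (r + 1) ≡ 2 + 1 [MOD 16] := this.add_right 1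
          exact (((h9.pow 3).mul this).mul ((h9.pow 3).add_right 1))
        rw [h8] at h7
        norm_num at h7
      · have h8 : ((r + 1) ^ 3 * r * ((r + 1) ^ 3 + 1)) % 16 = ((10 + 1) ^ 3 * 10 * ((10 + 1) ^ 3 + 1)) % 16 := by
          have : r ≡ 10 [MOD 16] := h6
          have h9 : (r + 1) ≡ 10 + 1 [MOD 16] := this.add_right 1
          exact (((h9.pow 3).mul this).mul ((h9.pow 3).add_right 1))
        rw [h8] at h7
        norm_num at h7
    · -- `J₁`
      exfalso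
      obtain ⟨e⟩ := h
      refine hT (ne8_of_card hr ?_ T)
      rw [Nat.card_congr e.toEquiv, Cfsg.Agent.SporRec.J1.Words.card_J1]
      norm_num
  · -- `L₂(16)`
    obtain ⟨F, i, j, -, e⟩ := h
    exact Or.inl ⟨F, i, j, e⟩
  · -- `L₃(4)`
    exfalso
    obtain ⟨F, _, _, hF, ⟨e⟩⟩ := h
    exact hT (ModelsB.psl34 hF e T)
  · exact absurd (Models.isAlt h1 h2 e T) hT
  · -- `PSp₄(q)`
    exfalso
    obtain ⟨F, _, _, hodd, ⟨e⟩⟩ := h
    rcases (three_le_of_odd hodd Fintype.one_lt_card).eq_or_lt with h3 | h3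
    · exact hT (Models.psp43 h3.symm e T)
    · exact false_of_long hC ((Mat.hasLong_psp hodd le_rfl).of_equiv e.symm) h3
  · -- `L₄(q)`
    exfalso
    obtain ⟨F, _, _, hodd, -, ⟨e⟩⟩ := h
    rcases (three_le_of_odd hodd Fintype.one_lt_card).eq_or_lt with h3 | h3
    · exact hT (Models.psl43 h3.symm e T)
    · exact false_of_long hC ((Mat.hasLong_psl hodd (by norm_num)).of_equiv e.symm) h3
  · -- `U₄(q)`
    exfalso
    obtain ⟨F, _, _, q, hF, hodd, -, ⟨e⟩⟩ := h
    have hq1 : 1 < q := by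
      by_contra h
      have h2 : q = 0 ∨ q = 1 := by omega
      have h3 : 1 < Fintype.card F := Fintype.one_lt_card
      rcases h2 with rfl | rfl
      · rw [hF] at h3; norm_num at h3
      · rw [hF] at h3; norm_num at h3
    rcases (three_le_of_odd hodd hq1).eq_or_lt with h3 | h3
    · subst h3
      exact hT (ModelsB.psu43 hF e T)
    · exact false_of_long hC ((Mat.hasLong_psu hF hodd (by norm_num)).of_equiv e.symm) h3
  · -- `L₅(q)`
    exfalso
    obtain ⟨F, _, _, h4, ⟨e⟩⟩ := h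
    have hodd : Odd (Fintype.card F) := Nat.odd_iff.2 (by omega)
    rcases (three_le_of_odd hodd Fintype.one_lt_card).eq_or_lt with h3 | h3
    · exact LFiveThree.false_of_psl53 h3.symm e hC
    · exact false_of_long hC ((Mat.hasLong_psl hodd (by norm_num)).of_equiv e.symm) h3
  · -- `U₅(q)`
    exfalso
    obtain ⟨F, _, _, q, hF, h4, ⟨e⟩⟩ := h
    have hodd : Odd q := Nat.odd_iff.2 (by omega)
    have hq1 : q ≠ 1 := by
      rintro rfl
      have h3 : 1 < Fintype.card F := Fintype.one_lt_card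
      rw [hF] at h3; norm_num at h3
    exact false_of_long hC ((Mat.hasLong_psu hF hodd (by norm_num)).of_equiv e.symm) (by omega)
  · -- `G₂(q)`
    exfalso
    obtain ⟨F, _, _, hodd, ⟨e⟩⟩ := h
    rcases (three_le_of_odd hodd Fintype.one_lt_card).eq_or_lt with h3 | h3
    · exact hT (Models.g23 h3.symm e T)
    · exact false_of_long hC ((Chev.hasLong_G2 F hodd).of_equiv e.symm) h3
  · -- `³D₄(q)`
    exfalso
    obtain ⟨K, _, _, q, hodd, hK, ⟨e⟩⟩ := h
    have hq : IsPrimePow q := by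
      have h1 : IsPrimePow (q ^ 3) := by
        rw [← hK]
        exact FiniteField.isPrimePow_card K
      exact (isPrimePow_pow_iff (by norm_num)).1 h1
    have h3 : 3 ≤ q := three_le_of_odd hodd hq.one_lt
    refine false_of_long hC ((Cfsg.Agent.OddTab.D4Short.hasLong hq hK hodd).of_equiv e.symm) ?_
    calc 3 < 3 ^ 3 := by norm_num
      _ ≤ q ^ 3 := Nat.pow_le_pow_left h3 3
  · exact absurd (Models.m12 h T) hT
  · exact absurd (ModelsB.m22 h T) hT
  · exact absurd (ModelsB.m23 h T) hT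
  · rcases Cfsg.Agent.Classification.NonConnOrders.isJ2_or_isJ3 (Or.inl h) with h | h
    · exact Or.inr (Or.inr (Or.inr (Or.inr (Or.inr (Or.inr (Or.inl h))))))
    · exact Or.inr (Or.inr (Or.inr (Or.inr (Or.inr (Or.inr (Or.inr h))))))
  · rcases Cfsg.Agent.Classification.NonConnOrders.isJ2_or_isJ3 (Or.inr h) with h | h
    · exact Or.inr (Or.inr (Or.inr (Or.inr (Or.inr (Or.inr (Or.inl h))))))
    · exact Or.inr (Or.inr (Or.inr (Or.inr (Or.inr (Or.inr (Or.inr h))))))
  · -- `McL`, `Ly`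
    exfalso
    rcases Cfsg.Agent.GH.AltOut.mcl_or_ly hna hO h38 h with h1 | h1
    · obtain ⟨-, -, -, ⟨M⟩⟩ := Cfsg.Agent.TypeM.FactsMcL.facts h1
      exact alt_false hC h ⟨M.t, M.one⟩
    · obtain ⟨-, -, -, ⟨M⟩⟩ := Cfsg.Agent.TypeM.FactsLy.facts h1
      exact alt_false hC h ⟨M.t, M.one⟩

/-- the groups of 2-rank at most 2 -/
theorem of_rank_two (hC : ∀ z : G, IsTwoCentralInvolution z → IsPConstrained 2 (centralizer ({z} : Set G)))
    (h : (∃ (F : Type) (_ : Field F) (_ : Fintype F), Odd (Fintype.card F) ∧ 5 ≤ Fintype.card F ∧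
        Nonempty (G ≃* Matrix.ProjectiveSpecialLinearGroup (Fin 2) F)) ∨
      (∃ (F : Type) (_ : Field F) (_ : Fintype F), Odd (Fintype.card F) ∧
        Nonempty (G ≃* Matrix.ProjectiveSpecialLinearGroup (Fin 3) F)) ∨
      (∃ (F : Type) (_ : Field F) (_ : Fintype F) (q : ℕ), Fintype.card F = q ^ 2 ∧ Odd q ∧
        Nonempty (G ≃* Cfsg.PSU 3 F q)) ∨
      (∃ (F : Type) (_ : Field F) (_ : Fintype F), Fintype.card F = 16 ∧ Nonempty (G ≃* Cfsg.PSU 3 F 4)) ∨
      Nonempty (G ≃* alternatingGroup (Fin 7)) ∨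
      Cfsg.IsM11 G) : Concl G := by
  rcases h with ⟨F, i, j, -, -, e⟩ | ⟨F, i, j, hodd, ⟨e⟩⟩ | ⟨F, i, j, q, hF, hodd, ⟨e⟩⟩ | h | h | h
  · exact Or.inl ⟨F, i, j, e⟩
  · rcases (three_le_of_odd hodd Fintype.one_lt_card).eq_or_lt with h3 | h3
    · exact Or.inr (Or.inr (Or.inr (Or.inl ⟨F, i, j, h3.symm, ⟨e⟩⟩)))
    · exact (false_of_long hC ((Mat.hasLong_psl hodd le_rfl).of_equiv e.symm) h3).elim
  · have hq1 : 1 < q := by
      by_contra h
      have h2 : q = 0 ∨ q = 1 := by omega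
      have h3 : 1 < Fintype.card F := Fintype.one_lt_card
      rcases h2 with rfl | rfl
      · rw [hF] at h3; norm_num at h3
      · rw [hF] at h3; norm_num at h3
    rcases (three_le_of_odd hodd hq1).eq_or_lt with h3 | h3
    · subst h3
      exact Or.inr (Or.inr (Or.inr (Or.inr (Or.inl ⟨F, i, j, by rw [hF]; norm_num, ⟨e⟩⟩))))
    · exact (false_of_long hC ((Mat.hasLong_psu hF hodd le_rfl).of_equiv e.symm) h3).elim
  · exact Or.inr (Or.inr (Or.inr (Or.inr (Or.inr (Or.inl h)))))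
  · exact Or.inr (Or.inl h)
  · exact Or.inr (Or.inr (Or.inl h))

end main

end Cfsg.Agent.H326.CHZ
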