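import Mathlib
import Cfsg.Prelude.Def_Transfer
import Cfsg.Prelude.Def_SporadicB
import Cfsg.Agent.Transfer.PGroupNormal

/-!
# Normal elementary abelian subgroups of order 8 of a 2-group (helper326)

* `NE8 S` : `S` has a normal elementary abelian subgroup of order at least 8;
* `ne8_false` : a Sylow 2-subgroup without normal elementary abelian subgroups of order 8 is not `NE8`;
* `of_conj` : if some Sylow 2-subgroup is `NE8`, then all are.
-/

set_option autoImplicit false

open Cfsg Subgroup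

namespace Cfsg.Agent.H326.NormEight

/-- `S` has a normal elementary abelian subgroup of order at least 8 -/
def NE8 (S : Type*) [Group S] : Prop :=
  ∃ V : Subgroup S, V.Normal ∧ (∀ x ∈ V, x * x = 1) ∧ 8 ≤ Nat.card V

theorem NE8.congr {S T : Type*} [Group S] [Group T] (e : S ≃* T) (h : NE8 S) : NE8 T := by
  obtain ⟨V, h1, h2, h3⟩ := h
  refine ⟨V.map e.toMonoidHom, h1.map _ e.surjective, ?_, ?_⟩
  · rintro _ ⟨x, hx, rfl⟩
    change e x * e x = 1
    rw [← map_mul, h2 x hx, map_one]
  · have h4 : Nat.card (V.map e.toMonoidHom) = Nat.card V :=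
      Nat.card_congr (V.equivMapOfInjective e.toMonoidHom e.injective).toEquiv.symm
    omega

theorem isMulCommutative_of_sq {S : Type*} [Group S] {V : Subgroup S} (h : ∀ x ∈ V, x * x = 1) :
    IsMulCommutative V := by
  refine ⟨⟨fun a b => Subtype.ext ?_⟩⟩
  have ha := h a a.2
  have hb := h b b.2
  have hab := h (a * b) (mul_mem a.2 b.2)
  change (a : S) * b = b * a
  have ha' : (a : S)⁻¹ = a := inv_eq_of_mul_eq_one_left ha
  have hb' : (b : S)⁻¹ = b := inv_eq_of_mul_eq_one_left hb
  calc (a : S) * b = ((a : S) * b)⁻¹ := (inv_eq_of_mul_eq_one_left hab).symm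
    _ = b * a := by rw [mul_inv_rev, ha', hb']

/-- exactly 8 -/
theorem NE8.exists_eight {P : Type*} [Group P] [Finite P] (hP : IsPGroup 2 P) (h : NE8 P) :
    ∃ V : Subgroup P, V.Normal ∧ (∀ x ∈ V, x * x = 1) ∧ Nat.card V = 8 := by
  have : Fact (Nat.Prime 2) := ⟨Nat.prime_two⟩
  obtain ⟨V, h1, h2, h3⟩ := h
  obtain ⟨M, h4, h5, h6⟩ := Cfsg.Agent.Transfer.PGroupNormal.exists_normal_le_card hP h1 (k := 3)
    (by norm_num; exact h3)
  exact ⟨M, h4, fun x hx => h2 x (h5 hx), by rw [h6]; norm_num⟩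

/-- the hypothesis "no normal elementary abelian subgroup of order 8" -/
theorem ne8_false {G : Type*} [Group G] [Finite G] (T : Sylow 2 G)
    (hT : ∀ E : Subgroup G, E ≤ (T : Subgroup G) → Cfsg.IsElementaryAbelian 2 E → Nat.card E = 8 →
      ¬ (E.subgroupOf (T : Subgroup G)).Normal) : ¬ NE8 ↥(T : Subgroup G) := by
  intro h
  obtain ⟨V, h1, h2, h3⟩ := h.exists_eight T.isPGroup'
  have h4 : ∀ x ∈ V.map (T : Subgroup G).subtype, x * x = 1 := by
    rintro _ ⟨x, hx, rfl⟩
    exact congrArg Subtype.val (h2 x hx)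
  refine hT (V.map (T : Subgroup G).subtype) (map_subtype_le V) ⟨isMulCommutative_of_sq h4, ?_⟩ ?_ ?_
  · intro x hx
    rw [pow_two]
    exact h4 x hx
  · rw [← h3]
    exact Nat.card_congr (V.equivMapOfInjective _ (T : Subgroup G).subtype_injective).toEquiv.symm
  · have h5 : (V.map (T : Subgroup G).subtype).subgroupOf (T : Subgroup G) = V :=
      comap_map_eq_self_of_injective (T : Subgroup G).subtype_injective V
    rw [h5]
    exact h1

/-- all Sylow 2-subgroups are alike -/
theorem of_conj {G : Type*} [Group G] [Finite G] {S : Sylow 2 G} (h : NE8 ↥(S : Subgroup G))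
    (T : Sylow 2 G) : NE8 ↥(T : Subgroup G) := by
  have : Fact (Nat.Prime 2) := ⟨Nat.prime_two⟩
  exact h.congr (Sylow.equiv S T)

/-- transport along an isomorphism of the groups -/
theorem of_equiv {G H : Type*} [Group G] [Finite G] [Group H] [Finite H] (e : G ≃* H) {S : Sylow 2 H}
    (h : NE8 ↥(S : Subgroup H)) (T : Sylow 2 G) : NE8 ↥(T : Subgroup G) := by
  have : Fact (Nat.Prime 2) := ⟨Nat.prime_two⟩
  let T' : Sylow 2 H := T.mapSurjective (f := e.toMonoidHom) e.surjective
  have h1 : NE8 ↥(T' : Subgroup H) := of_conj h T'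
  have h2 : (T' : Subgroup H) = (T : Subgroup G).map e.toMonoidHom := rfl
  rw [h2] at h1
  exact h1.congr ((T : Subgroup G).equivMapOfInjective e.toMonoidHom e.injective).symm

/-- a subgroup of odd index with a normal elementary abelian subgroup of order at least 8 -/
theorem of_odd_index {G : Type*} [Group G] [Finite G] (V : Subgroup G) (hV : ∀ x ∈ V, x * x = 1)
    (h8 : 8 ≤ Nat.card V) (H : Subgroup G) (hH : ¬ 2 ∣ H.index)
    (hn : ∀ h ∈ H, ∀ x ∈ V, h * x * h⁻¹ ∈ V) (hVH : V ≤ H) (T : Sylow 2 G) :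
    NE8 ↥(T : Subgroup G) := by
  have : Fact (Nat.Prime 2) := ⟨Nat.prime_two⟩
  obtain ⟨P⟩ : Nonempty (Sylow 2 H) := inferInstance
  have hVP : IsPGroup 2 V := by
    intro x
    refine ⟨1, Subtype.ext ?_⟩
    rw [pow_one, pow_two]
    exact hV x x.2
  -- `V` is in `P`
  have hV' : V.subgroupOf H ≤ P := by
    have h1 : (V.subgroupOf H).Normal := by
      constructor
      intro x hx g
      exact hn g g.2 x hx
    have h2 : IsPGroup 2 (V.subgroupOf H) := hVP.comap_of_injective H.subtype H.subtype_injective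
    exact h2.le_sylow_of_normal P
  -- `P` is a Sylow 2-subgroup of `G`
  have hP : IsPGroup 2 ((P : Subgroup H).map H.subtype) := P.isPGroup'.map _
  have hidx : ¬ 2 ∣ ((P : Subgroup H).map H.subtype).index := by
    rw [Subgroup.index_map_subtype]
    intro h
    rcases (Nat.Prime.dvd_mul Nat.prime_two).1 h with h | h
    · exact P.not_dvd_index h
    · exact hH h
  let S : Sylow 2 G := hP.toSylow hidx
  have hS : (S : Subgroup G) = (P : Subgroup H).map H.subtype := rfl
  refine of_conj (S := S) ?_ T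
  have hVS : V ≤ (S : Subgroup G) := by
    intro x hx
    rw [hS]
    exact ⟨⟨x, hVH hx⟩, hV' (mem_subgroupOf.2 hx), rfl⟩
  refine ⟨V.subgroupOf (S : Subgroup G), ?_, ?_, ?_⟩
  · constructor
    intro x hx g
    have hg : (g : G) ∈ H := by
      have h1 : (g : G) ∈ (P : Subgroup H).map H.subtype := g.2
      obtain ⟨y, -, hy⟩ := h1
      rw [← hy]
      exact y.2
    exact hn g hg x hx
  · intro x hx
    exact Subtype.ext (hV x hx)
  · rw [Nat.card_congr (subgroupOfEquivOfLe hVS).toEquiv]
    exact h8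

end Cfsg.Agent.H326.NormEight
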